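import Mathlib.AlgebraicGeometry.Sites.EtalePoint
import Mathlib.CategoryTheory.CofilteredSystem
import Mathlib.AlgebraicGeometry.Morphisms.FormallyUnramified
import Groth.Agent.MorLib.GeomFibre
import Groth.Agent.TwDescend.Components

/-! every point of the small etale site is a geometric point -/

set_option autoImplicit false
set_option backward.isDefEq.respectTransparency false
set_option backward.isDefEq.respectTransparency.types false
universe u

open CategoryTheory CategoryTheory.Limits AlgebraicGeometry Opposite TopologicalSpace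
open Groth.Agent.MorLib

namespace Groth.Agent.EtPoint5

variable {S : Scheme.{u}} (p : GrothendieckTopology.Point.{u} S.smallEtaleTopology)

set_option quotPrecheck false

local notation "Φ" => p.fiber

/-- an open subscheme as an etale scheme -/
noncomputable abbrev res (U : S.Etale) (O : U.left.Opens) : S.Etale :=
  haveI : Etale U.hom := U.prop
  Scheme.Etale.mk (O.ι ≫ U.hom)

/-- its inclusion -/
noncomputable abbrev resι (U : S.Etale) (O : U.left.Opens) : res U O ⟶ U :=
  MorphismProperty.Over.homMk O.ι rfl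

/-- `v` comes from the open `O` -/
def Mem (U : S.Etale) (v : (Φ).obj U) (O : U.left.Opens) : Prop :=
  ∃ o, (Φ).map (resι U O) o = v

theorem exists_lift_res {W U : S.Etale} (a : W ⟶ U) (O : U.left.Opens)
    (h : ∀ z, a.left z ∈ O) : ∃ b : W ⟶ res U O, b ≫ resι U O = a := by
  have hr : Set.range a.left ⊆ Set.range O.ι := by
    rintro _ ⟨z, rfl⟩
    rw [Scheme.Opens.range_ι]
    exact h z
  refine ⟨MorphismProperty.Over.homMk (IsOpenImmersion.lift O.ι a.left hr) ?_,
    MorphismProperty.Over.Hom.ext (IsOpenImmersion.lift_fac _ _ _)⟩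
  show IsOpenImmersion.lift O.ι a.left hr ≫ O.ι ≫ U.hom = W.hom
  rw [IsOpenImmersion.lift_fac_assoc]
  exact MorphismProperty.Over.w a

theorem mem_of_forall {W U : S.Etale} (a : W ⟶ U) (w : (Φ).obj W) (O : U.left.Opens)
    (h : ∀ z, a.left z ∈ O) : Mem p U ((Φ).map a w) O := by
  obtain ⟨b, rfl⟩ := exists_lift_res a O h
  exact ⟨(Φ).map b w, (Functor.map_comp_apply _ _ _ _).symm⟩

theorem mem_mono {U : S.Etale} {v : (Φ).obj U} {O O' : U.left.Opens} (h : O ≤ O') (hv : Mem p U v O) :
    Mem p U v O' := by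
  obtain ⟨o, rfl⟩ := hv
  exact mem_of_forall p _ o O' fun z => h z.2

theorem mem_top (U : S.Etale) (v : (Φ).obj U) : Mem p U v ⊤ := by
  simpa using mem_of_forall p (𝟙 U) v ⊤ fun _ => trivial

/-- two refinements of one element have a common refinement -/
theorem exists_common {A B U : S.Etale} (f : A ⟶ U) (g : B ⟶ U) (a : (Φ).obj A) (b : (Φ).obj B)
    (h : (Φ).map f a = (Φ).map g b) :
    ∃ (W : S.Etale) (w : (Φ).obj W) (a' : W ⟶ A) (b' : W ⟶ B),
      (Φ).map a' w = a ∧ (Φ).map b' w = b ∧ a' ≫ f = b' ≫ g := by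
  obtain ⟨c, i, j, -⟩ := IsCofilteredOrEmpty.cone_objs ((Φ).elementsMk A a) ((Φ).elementsMk B b)
  let eU := (Φ).elementsMk U ((Φ).map f a)
  let f' : (Φ).elementsMk A a ⟶ eU := CategoryOfElements.homMk _ eU f rfl
  let g' : (Φ).elementsMk B b ⟶ eU := CategoryOfElements.homMk _ eU g h.symm
  obtain ⟨d, k, hk⟩ := IsCofilteredOrEmpty.cone_maps (i ≫ f') (j ≫ g')
  exact ⟨d.1, d.2, (k ≫ i).1, (k ≫ j).1, (k ≫ i).2, (k ≫ j).2,
    by simpa [f', g'] using congrArg Subtype.val hk⟩

theorem mem_inf {U : S.Etale} {v : (Φ).obj U} {O O' : U.left.Opens} (h : Mem p U v O)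
    (h' : Mem p U v O') : Mem p U v (O ⊓ O') := by
  obtain ⟨o, ho⟩ := h
  obtain ⟨o', ho'⟩ := h'
  obtain ⟨W, w, a, b, ha, hb, e⟩ := exists_common p _ _ o o' (ho.trans ho'.symm)
  rw [← ho, ← ha, ← Functor.map_comp_apply]
  refine mem_of_forall p _ w _ fun z => ⟨(a.left z).2, ?_⟩
  rw [e]
  exact (b.left z).2

theorem exists_mem_of_mem_iSup {U : S.Etale} {v : (Φ).obj U} {ι : Type u} (O : ι → U.left.Opens)
    (h : Mem p U v (⨆ i, O i)) : ∃ i, Mem p U v (O i) := by
  obtain ⟨o, ho⟩ := h
  let V := res U (⨆ i, O i)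
  let P : ι → V.left.Opens := fun i => (⨆ i, O i).ι ⁻¹ᵁ O i
  have hR : Sieve.ofArrows _ (fun i => resι V (P i)) ∈ S.smallEtaleTopology V := by
    rw [Scheme.ofArrows_mem_smallEtaleTopology_iff]
    refine Set.eq_univ_of_forall fun z => ?_
    obtain ⟨i, hi⟩ := Opens.mem_iSup.1 z.2
    exact Set.mem_iUnion.2 ⟨i, ⟨⟨z, hi⟩, rfl⟩⟩
  obtain ⟨Y, f, hf, y, rfl⟩ := p.jointly_surjective _ hR o
  obtain ⟨i, a, rfl⟩ := (Sieve.mem_ofArrows_iff ..).1 hf
  refine ⟨i, ?_⟩
  rw [← ho, ← Functor.map_comp_apply]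
  exact mem_of_forall p _ y _ fun z => (a.left z).2

theorem not_mem_bot {U : S.Etale} {v : (Φ).obj U} : ¬ Mem p U v ⊥ := fun h => by
  obtain ⟨i, -⟩ := exists_mem_of_mem_iSup p (ι := PEmpty) (fun i => i.elim) (mem_mono p bot_le h)
  exact i.elim

theorem exists_point (U : S.Etale) (v : (Φ).obj U) :
    ∃ y : U.left, ∀ O : U.left.Opens, y ∈ O ↔ Mem p U v O := by
  let N : U.left.Opens := ⨆ O : {O : U.left.Opens // ¬ Mem p U v O}, O.1
  let C : Set U.left := (N : Set U.left)ᶜ
  have hN : ¬ Mem p U v N := fun h => by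
    obtain ⟨⟨O, hO⟩, h'⟩ := exists_mem_of_mem_iSup p _ h
    exact hO h'
  have hC : ∀ O : U.left.Opens, (C ∩ (O : Set U.left)).Nonempty ↔ Mem p U v O := fun O => by
    refine ⟨fun ⟨z, hz, hzO⟩ => ?_, fun h => ?_⟩
    · by_contra hn
      exact hz (Opens.mem_iSup.2 ⟨⟨O, hn⟩, hzO⟩)
    · by_contra hn
      refine hN (mem_mono p (fun z hz => ?_) h)
      by_contra hzN
      exact hn ⟨z, hzN, hz⟩
  have hirr : IsIrreducible C := by
    refine ⟨(((hC ⊤).2 (mem_top p U v))).mono Set.inter_subset_left, fun A B hA hB hCA hCB => ?_⟩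
    exact (hC (⟨A, hA⟩ ⊓ ⟨B, hB⟩)).2 (mem_inf p ((hC ⟨A, hA⟩).1 hCA) ((hC ⟨B, hB⟩).1 hCB))
  refine ⟨hirr.genericPoint, fun O => ?_⟩
  rw [← hC O]
  have hg := hirr.isGenericPoint_genericPoint_closure
  rw [show closure C = C from N.2.isClosed_compl.closure_eq] at hg
  exact hg.mem_open_set_iff O.2

/-- the point of `U` under an element of the fibre -/
noncomputable def bar (U : S.Etale) (v : (Φ).obj U) : U.left := (exists_point p U v).choose

theorem mem_bar_iff (U : S.Etale) (v : (Φ).obj U) (O : U.left.Opens) :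
    bar p U v ∈ O ↔ Mem p U v O :=
  (exists_point p U v).choose_spec O

theorem bar_map {U U' : S.Etale} (a : U ⟶ U') (v : (Φ).obj U) :
    a.left (bar p U v) = bar p U' ((Φ).map a v) := by
  refine (inseparable_iff_forall_isOpen.2 fun O hO => ?_).eq
  change bar p U v ∈ a.left ⁻¹ᵁ ⟨O, hO⟩ ↔ bar p U' _ ∈ (⟨O, hO⟩ : U'.left.Opens)
  rw [mem_bar_iff, mem_bar_iff]
  constructor
  · rintro ⟨o, rfl⟩
    rw [← Functor.map_comp_apply]
    exact mem_of_forall p _ o _ fun z => z.2
  · rintro ⟨o, ho⟩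
    obtain ⟨W, w, b, c, hb, hc, e⟩ := exists_common p a _ v o ho.symm
    rw [← hb]
    refine mem_of_forall p b w _ fun z => ?_
    show (b ≫ a).left z ∈ (⟨O, hO⟩ : U'.left.Opens)
    rw [e]
    exact (c.left z).2

/-- the terminal etale scheme -/
noncomputable abbrev top : S.Etale := Scheme.Etale.mk (𝟙 S)

/-- the unique morphism to it -/
noncomputable abbrev toTop (U : S.Etale) : U ⟶ top :=
  MorphismProperty.Over.homMk U.hom (Category.comp_id _)

theorem toTop_unique {U : S.Etale} (a : U ⟶ top) : a = toTop U :=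
  MorphismProperty.Over.Hom.ext ((Category.comp_id _).symm.trans (MorphismProperty.Over.w a))

/-- the point of `S` below `p` -/
theorem exists_base : ∃ x : S, ∀ (U : S.Etale) (v : (Φ).obj U), U.hom (bar p U v) = x := by
  have := p.isCofiltered
  obtain ⟨e⟩ := IsCofiltered.nonempty (C := (Φ).Elements)
  refine ⟨bar p top ((Φ).map (toTop e.1) e.2), fun U v => ?_⟩
  obtain ⟨c, i, j, -⟩ := IsCofilteredOrEmpty.cone_objs e ((Φ).elementsMk U v)
  rw [show U.hom (bar p U v) = bar p top ((Φ).map (toTop U) v) from bar_map p (toTop U) v]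
  refine congrArg (bar p top) ?_
  obtain ⟨W, w⟩ := c
  obtain ⟨E, x₀⟩ := e
  let a : W ⟶ E := i.1
  let b : W ⟶ U := j.1
  have ha : (Φ).map a w = x₀ := i.2
  have hb : (Φ).map b w = v := j.2
  show (Φ).map (toTop U) v = (Φ).map (toTop E) x₀
  rw [← ha, ← hb]
  exact (Functor.map_comp_apply _ _ _ _).symm.trans
    ((congrArg (fun f => (Φ).map f w) ((toTop_unique _).trans (toTop_unique _).symm)).trans
      (Functor.map_comp_apply _ _ _ _))

variable {Ω : Type u} [Field Ω] [IsAlgClosed Ω] (ξ : Spec (CommRingCat.of Ω) ⟶ S)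

local notation "Ψ" => (Scheme.pointSmallEtale ξ).fiber

/-- the point of a lift of `ξ` -/
noncomputable abbrev pt' {U : S.Etale} (z : (Ψ).obj U) : U.left :=
  GF.pt (z.left : Spec (CommRingCat.of Ω) ⟶ U.left)

theorem pt'_map {U U' : S.Etale} (a : U ⟶ U') (z : (Ψ).obj U) :
    pt' ξ ((Ψ).map a z) = a.left (pt' ξ z) :=
  GF.pt_comp _ _

/-- lifts of `ξ` over the point of an element -/
noncomputable def lifts : (Φ).Elements ⥤ Type u where
  obj e := {z : (Ψ).obj e.1 // pt' ξ z = bar p e.1 e.2}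
  map {e e'} a := TypeCat.ofHom fun z => ⟨(Ψ).map a.1 z.1, by rw [pt'_map, z.2, bar_map, a.2]⟩
  map_id e := by
    ext z
    exact Functor.map_id_apply (Ψ) e.1 z.1
  map_comp a b := by
    ext z
    exact Functor.map_comp_apply (Ψ) a.1 b.1 z.1

theorem finite_fiber_at {U : S.Etale} (y : U.left) :
    Finite {z : (Ψ).obj U // pt' ξ z = y} := by
  have : Etale U.hom := U.prop
  have : LocallyQuasiFinite U.hom := TwDescend.locallyQuasiFinite_of_etale _
  by_cases hy : U.hom y = GF.pt ξ
  · have : Finite {δ : Spec (CommRingCat.of Ω) ⟶ U.left // δ ≫ U.hom = ξ ∧ GF.pt δ = y} :=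
      (GF.lifts_at U.hom ξ y hy).1
    exact Finite.of_injective (β := {δ : Spec (CommRingCat.of Ω) ⟶ U.left // δ ≫ U.hom = ξ ∧ GF.pt δ = y})
      (fun z => ⟨z.1.left, CategoryTheory.Over.w z.1, z.2⟩)
      fun z z' e => Subtype.ext (CategoryTheory.Over.OverMorphism.ext (congrArg Subtype.val e))
  · have : IsEmpty {z : (Ψ).obj U // pt' ξ z = y} := ⟨fun z => hy (by
      rw [← z.2, ← GF.pt_comp]
      exact congrArg GF.pt (CategoryTheory.Over.w z.1))⟩
    infer_instance

/-- `W` with maps to `U` that are pairwise distinct on every lift of `ξ`. -/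
theorem exists_distinct (U : S.Etale) [IsSeparated U.hom] (s : Finset ((Ψ).obj U)) :
    ∃ (W : S.Etale) (a : (Ψ).obj U → (W ⟶ U)) (ω : (Ψ).obj W),
      (∀ i ∈ s, (Ψ).map (a i) ω = i) ∧
        ∀ ω' : (Ψ).obj W, ∀ i ∈ s, ∀ j ∈ s, (Ψ).map (a i) ω' = (Ψ).map (a j) ω' → i = j := by
  classical
  induction s using Finset.induction with
  | empty =>
    by_cases h : Nonempty ((Ψ).obj U)
    · obtain ⟨z⟩ := h
      exact ⟨U, fun _ => 𝟙 U, z, by simp, by simp⟩
    · exact ⟨top, fun i => (h ⟨i⟩).elim, CategoryTheory.Over.homMk ξ (Category.comp_id _), by simp, by simp⟩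
  | @insert k s hk ih =>
    obtain ⟨W, a, ω, hω, hne⟩ := ih
    have : Etale U.hom := U.prop
    have : Etale W.hom := W.prop
    let P := pullback W.hom U.hom
    let m : (Ψ).obj U → (P ⟶ pullback U.hom U.hom) := fun i =>
      pullback.lift (pullback.fst W.hom U.hom ≫ (a i).left) (pullback.snd W.hom U.hom)
        (by rw [Category.assoc, MorphismProperty.Over.w (a i)]; exact pullback.condition)
    let D : Set P := ⋃ i ∈ s, (m i) ⁻¹' Set.range (pullback.diagonal U.hom)
    have hD : IsClosed D := s.finite_toSet.isClosed_biUnion fun i _ =>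
      ((pullback.diagonal U.hom).isClosedEmbedding.isClosed_range).preimage (m i).continuous
    let O : P.Opens := ⟨Dᶜ, hD.isOpen_compl⟩
    let W' : S.Etale := Scheme.Etale.mk (O.ι ≫ pullback.fst W.hom U.hom ≫ W.hom)
    let π : W' ⟶ W := MorphismProperty.Over.homMk (O.ι ≫ pullback.fst W.hom U.hom) (by simp [W'])
    let π₂ : W' ⟶ U := MorphismProperty.Over.homMk (O.ι ≫ pullback.snd W.hom U.hom)
      (by simp [W', pullback.condition])
    let a' : (Ψ).obj U → (W' ⟶ U) := fun i => if i = k then π₂ else π ≫ a i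
    let ω₀ : Spec (CommRingCat.of Ω) ⟶ P := pullback.lift ω.left k.left
      ((CategoryTheory.Over.w ω).trans (CategoryTheory.Over.w k).symm)
    have hω₀ : GF.pt ω₀ ∈ O := by
      intro hmem
      obtain ⟨i, hi, y, hy⟩ := Set.mem_iUnion₂.1 hmem
      have hr : Set.range (ω₀ ≫ m i) ⊆ Set.range (pullback.diagonal U.hom) := by
        rintro _ ⟨t, rfl⟩
        rw [Subsingleton.elim (α := Spec (CommRingCat.of Ω)) t (IsLocalRing.closedPoint Ω)]
        exact ⟨y, by rw [hy, Scheme.Hom.comp_apply]⟩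
      have hl := IsOpenImmersion.lift_fac (pullback.diagonal U.hom) (ω₀ ≫ m i) hr
      have e1 := congr($hl ≫ pullback.fst U.hom U.hom)
      have e2 := congr($hl ≫ pullback.snd U.hom U.hom)
      rw [Category.assoc, pullback.diagonal_fst] at e1
      rw [Category.assoc, pullback.diagonal_snd] at e2
      simp only [m, ω₀, Category.assoc, pullback.lift_fst, pullback.lift_snd,
        pullback.lift_fst_assoc] at e1 e2
      have : i = k := by
        refine (hω i hi).symm.trans (CategoryTheory.Over.OverMorphism.ext ?_)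
        exact e1.symm.trans e2
      exact hk (this ▸ hi)
    let l : Spec (CommRingCat.of Ω) ⟶ O.toScheme := IsOpenImmersion.lift O.ι ω₀ (by
      rintro _ ⟨t, rfl⟩
      rw [Subsingleton.elim (α := Spec (CommRingCat.of Ω)) t (IsLocalRing.closedPoint Ω),
        Scheme.Opens.range_ι]
      exact hω₀)
    have hl : l ≫ O.ι = ω₀ := IsOpenImmersion.lift_fac _ _ _
    let ω' : (Ψ).obj W' := CategoryTheory.Over.homMk l (by
      show l ≫ O.ι ≫ pullback.fst W.hom U.hom ≫ W.hom = ξ
      rw [reassoc_of% hl, pullback.lift_fst_assoc]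
      exact CategoryTheory.Over.w ω)
    have hk' : a' k = π₂ := if_pos rfl
    have hi' : ∀ i ∈ s, a' i = π ≫ a i := fun i hi => if_neg fun e : i = k => hk (e ▸ hi)
    have hcross : ∀ (z : (Ψ).obj W') (i : (Ψ).obj U), i ∈ s → (Ψ).map (a' i) z ≠ (Ψ).map π₂ z := by
      intro z i hi e
      rw [hi' i hi] at e
      have e' := congrArg (fun f : (Ψ).obj U => (f.left : Spec (CommRingCat.of Ω) ⟶ U.left)) e
      change z.left ≫ (O.ι ≫ pullback.fst W.hom U.hom) ≫ (a i).left =
        z.left ≫ O.ι ≫ pullback.snd W.hom U.hom at e'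
      let zl : Spec (CommRingCat.of Ω) ⟶ O.toScheme := z.left
      have hmem : GF.pt (zl ≫ O.ι) ∈ D := by
        refine Set.mem_iUnion₂.2 ⟨i, hi, GF.pt (zl ≫ O.ι ≫ pullback.snd W.hom U.hom), ?_⟩
        rw [← Scheme.Hom.comp_apply, ← Scheme.Hom.comp_apply]
        refine congrArg (fun f => (f : Spec (CommRingCat.of Ω) ⟶ _) (IsLocalRing.closedPoint Ω)) ?_
        apply pullback.hom_ext
        · simp only [m, Category.assoc, pullback.diagonal_fst, pullback.lift_fst, Category.comp_id]
          exact ((Category.assoc _ _ _).symm.trans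
            ((congrArg (zl ≫ ·) (Category.assoc _ _ _).symm).trans e')).symm
        · simp [m]
      exact (zl (IsLocalRing.closedPoint Ω)).2 hmem
    refine ⟨W', a', ω', fun i hi => ?_, fun z i hi j hj e => ?_⟩
    · rcases Finset.mem_insert.1 hi with rfl | hi
      · rw [hk']
        refine CategoryTheory.Over.OverMorphism.ext ?_
        show l ≫ O.ι ≫ pullback.snd W.hom U.hom = i.left
        rw [reassoc_of% hl, pullback.lift_snd]
      · rw [hi' i hi]
        refine CategoryTheory.Over.OverMorphism.ext ?_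
        show l ≫ (O.ι ≫ pullback.fst W.hom U.hom) ≫ (a i).left = i.left
        rw [Category.assoc, reassoc_of% hl, pullback.lift_fst_assoc]
        exact congrArg (fun f : (Ψ).obj U => f.left) (hω i hi)
    · by_cases hik : i = k <;> by_cases hjk : j = k
      · exact hik.trans hjk.symm
      · rw [hik, hk'] at e
        exact absurd e.symm (hcross z j (Finset.mem_of_mem_insert_of_ne hj hjk))
      · rw [hjk, hk'] at e
        exact absurd e (hcross z i (Finset.mem_of_mem_insert_of_ne hi hik))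
      · have hi₀ := Finset.mem_of_mem_insert_of_ne hi hik
        have hj₀ := Finset.mem_of_mem_insert_of_ne hj hjk
        rw [hi' i hi₀, hi' j hj₀] at e
        exact hne ((Ψ).map π z) i hi₀ j hj₀
          (by rw [← Functor.map_comp_apply, ← Functor.map_comp_apply]; exact e)

theorem main : ∃ (Ω : Type u) (_ : Field Ω) (_ : IsSepClosed Ω) (ξ : Spec (CommRingCat.of Ω) ⟶ S),
    Nonempty (p.fiber ≅ (Scheme.pointSmallEtale ξ).fiber) := by
  classical
  obtain ⟨x, hx⟩ := exists_base p
  obtain ⟨Ω, _, _, ξ, hξ⟩ := GF.exists_geomPoint x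
  have := p.isCofiltered
  have : ∀ e, Finite ((lifts p ξ).obj e) := fun e => finite_fiber_at ξ _
  have : ∀ e, Nonempty ((lifts p ξ).obj e) := fun e => by
    have : Etale e.1.hom := e.1.prop
    obtain ⟨l, hl, hl'⟩ := Scheme.exists_fac_of_etale_of_isSepClosed e.1.hom ξ (bar p e.1 e.2)
      (((hx e.1 e.2).trans hξ.symm).trans (congrArg ξ
        (Subsingleton.elim (α := Spec (CommRingCat.of Ω)) _ _)))
    exact ⟨⟨CategoryTheory.Over.homMk l hl, (congrArg l
      (Subsingleton.elim (α := Spec (CommRingCat.of Ω)) _ _)).trans hl'⟩⟩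
  obtain ⟨σ, hσ⟩ := nonempty_sections_of_finite_cofiltered_system (lifts p ξ)
  let η : ∀ U : S.Etale, (Φ).obj U → (Scheme.pointSmallEtale ξ).fiber.obj U := fun U v =>
    (σ ((Φ).elementsMk U v)).1
  have hη : ∀ U v, pt' ξ (η U v) = bar p U v := fun U v => (σ ((Φ).elementsMk U v)).2
  have hnat : ∀ {U U' : S.Etale} (a : U ⟶ U') (v : (Φ).obj U),
      η U' ((Φ).map a v) = (Scheme.pointSmallEtale ξ).fiber.map a (η U v) := fun {U U'} a v =>
    (congrArg Subtype.val (hσ (CategoryOfElements.homMk ((Φ).elementsMk U v)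
      ((Φ).elementsMk U' ((Φ).map a v)) a rfl))).symm
  have hinj : ∀ U, Function.Injective (η U) := by
    intro U v v' e
    obtain ⟨c, i, j, -⟩ := IsCofilteredOrEmpty.cone_objs ((Φ).elementsMk U v) ((Φ).elementsMk U v')
    obtain ⟨W, w⟩ := c
    let a : W ⟶ U := i.1
    let b : W ⟶ U := j.1
    have ha : (Φ).map a w = v := i.2
    have hb : (Φ).map b w = v' := j.2
    rw [← ha, ← hb] at e ⊢
    rw [hnat, hnat] at e
    have : Etale U.hom := U.prop
    let d : W.left ⟶ pullback U.hom U.hom := pullback.lift a.left b.left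
      ((MorphismProperty.Over.w a).trans (MorphismProperty.Over.w b).symm)
    let E : W.left.Opens := d ⁻¹ᵁ (pullback.diagonal U.hom).opensRange
    have hE : bar p W w ∈ E := by
      rw [← hη]
      let z : Spec (CommRingCat.of Ω) ⟶ W.left := (η W w).left
      refine ⟨GF.pt (z ≫ a.left), ?_⟩
      show pullback.diagonal U.hom _ = d (GF.pt z)
      rw [← Scheme.Hom.comp_apply, ← Scheme.Hom.comp_apply]
      refine congrArg (fun f => (f : Spec (CommRingCat.of Ω) ⟶ _) (IsLocalRing.closedPoint Ω)) ?_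
      have e' : z ≫ a.left = z ≫ b.left :=
        congrArg (fun f : (Scheme.pointSmallEtale ξ).fiber.obj U =>
          (f.left : Spec (CommRingCat.of Ω) ⟶ U.left)) e
      apply pullback.hom_ext
      · simp [d]
      · simp [d, e']
    obtain ⟨o, ho⟩ := (mem_bar_iff p W w E).1 hE
    rw [← ho, ← Functor.map_comp_apply, ← Functor.map_comp_apply]
    refine congrArg (fun f => (Φ).map f o) (MorphismProperty.Over.Hom.ext ?_)
    show E.ι ≫ a.left = E.ι ≫ b.left
    have hr : Set.range (E.ι ≫ d) ⊆ Set.range (pullback.diagonal U.hom) := by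
      rintro _ ⟨t, rfl⟩
      exact t.2
    have hl := IsOpenImmersion.lift_fac (pullback.diagonal U.hom) (E.ι ≫ d) hr
    have e1 := congr($hl ≫ pullback.fst U.hom U.hom)
    have e2 := congr($hl ≫ pullback.snd U.hom U.hom)
    simp only [d, Category.assoc, pullback.diagonal_fst, pullback.diagonal_snd, pullback.lift_fst,
      pullback.lift_snd] at e1 e2
    exact e1.symm.trans e2
  have hsurj : ∀ U, Function.Surjective (η U) := by
    intro U ζ
    have : Etale U.hom := U.prop
    obtain ⟨X₀, hX₀, hyX₀, -⟩ := exists_isAffineOpen_mem_and_subset (U := (⊤ : S.Opens))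
      (x := U.hom (pt' ξ ζ)) trivial
    obtain ⟨A, hA, hyA, hAX⟩ := exists_isAffineOpen_mem_and_subset
      (U := (U.hom ⁻¹ᵁ X₀ : U.left.Opens)) (x := pt' ξ ζ) hyX₀
    have : IsAffine A.toScheme := hA
    have : IsAffine X₀.toScheme := hX₀
    let f : A.toScheme ⟶ X₀.toScheme := Scheme.Hom.resLE U.hom X₀ A hAX
    have hf : f ≫ X₀.ι = A.ι ≫ U.hom := Scheme.Hom.resLE_comp_ι _ _
    have hsep : IsSeparated (res U A).hom := by
      show IsSeparated (A.ι ≫ U.hom)
      rw [← hf]
      infer_instance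
    have hqc : QuasiCompact f := (quasiCompact_iff_compactSpace f).2 inferInstance
    have hlqf : LocallyQuasiFinite f := by
      have : LocallyQuasiFinite (f ≫ X₀.ι) := by
        rw [hf]; exact TwDescend.locallyQuasiFinite_of_etale _
      exact LocallyQuasiFinite.of_comp f X₀.ι
    have hfin : Finite ((Scheme.pointSmallEtale ξ).fiber.obj (res U A)) := by
      have hset : ((res U A).hom ⁻¹' {GF.pt ξ}).Finite := by
        rcases isEmpty_or_nonempty {z : X₀.toScheme // X₀.ι z = GF.pt ξ} with h | ⟨⟨z, hz⟩⟩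
        · convert Set.finite_empty
          ext t
          simp only [Set.mem_preimage, Set.mem_singleton_iff, Set.mem_empty_iff_false, iff_false]
          intro ht
          refine h.elim ⟨f t, ?_⟩
          rw [← Scheme.Hom.comp_apply, hf]
          exact ht
        · refine (f.finite_preimage_singleton z).subset fun t ht => X₀.ι.isOpenEmbedding.injective ?_
          rw [← Scheme.Hom.comp_apply, hf, hz]
          exact ht
      have : LocallyQuasiFinite (res U A).hom := TwDescend.locallyQuasiFinite_of_etale _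
      have : Finite {δ : Spec (CommRingCat.of Ω) ⟶ (res U A).left // δ ≫ (res U A).hom = ξ} :=
        GF.finite_lifts (res U A).hom ξ hset
      exact Finite.of_injective
        (β := {δ : Spec (CommRingCat.of Ω) ⟶ (res U A).left // δ ≫ (res U A).hom = ξ})
        (fun z => ⟨z.left, CategoryTheory.Over.w z⟩)
        fun z z' e => CategoryTheory.Over.OverMorphism.ext (congrArg Subtype.val e)
    let := Fintype.ofFinite ((Scheme.pointSmallEtale ξ).fiber.obj (res U A))
    let ζl : Spec (CommRingCat.of Ω) ⟶ U.left := ζ.left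
    let l : Spec (CommRingCat.of Ω) ⟶ A.toScheme := IsOpenImmersion.lift A.ι ζl (by
      rintro _ ⟨t, rfl⟩
      rw [Subsingleton.elim (α := Spec (CommRingCat.of Ω)) t (IsLocalRing.closedPoint Ω),
        Scheme.Opens.range_ι]
      exact hyA)
    have hl : l ≫ A.ι = ζl := IsOpenImmersion.lift_fac _ _ _
    let ζ₀ : (Scheme.pointSmallEtale ξ).fiber.obj (res U A) := CategoryTheory.Over.homMk l (by
      show l ≫ A.ι ≫ U.hom = ξ
      rw [reassoc_of% hl]
      exact CategoryTheory.Over.w ζ)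
    have hζ₀ : (Scheme.pointSmallEtale ξ).fiber.map (resι U A) ζ₀ = ζ :=
      CategoryTheory.Over.OverMorphism.ext hl
    suffices h₀ : Function.Surjective (η (res U A)) by
      obtain ⟨v, hv⟩ := h₀ ζ₀
      exact ⟨(Φ).map (resι U A) v, by rw [hnat, hv, hζ₀]⟩
    obtain ⟨W, a, ω, -, hne⟩ := exists_distinct ξ (res U A) Finset.univ
    have hW : Etale W.hom := W.prop
    -- an element of the fibre of `W`
    obtain ⟨w⟩ : Nonempty ((Φ).obj W) := by
      let O : S.Opens := ⟨Set.range W.hom, W.hom.isOpenMap.isOpen_range⟩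
      have hxO : x ∈ O := ⟨pt' ξ ω, by
        rw [← hξ, ← GF.pt_comp]
        exact congrArg GF.pt (CategoryTheory.Over.w ω)⟩
      obtain ⟨e⟩ := IsCofiltered.nonempty (C := (Φ).Elements)
      obtain ⟨o, -⟩ := (mem_bar_iff p e.1 e.2 (e.1.hom ⁻¹ᵁ O)).1
        (show e.1.hom (bar p e.1 e.2) ∈ O by rw [hx]; exact hxO)
      let T : S.Etale := Scheme.Etale.mk O.ι
      obtain ⟨c, -⟩ := exists_lift_res (toTop (res e.1 (e.1.hom ⁻¹ᵁ O))) (O : (top (S := S)).left.Opens)
        fun z => z.2
      let q : W ⟶ T := MorphismProperty.Over.homMk (IsOpenImmersion.lift O.ι W.hom (by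
        intro z hz; exact (Scheme.Opens.range_ι O).ge hz)) (IsOpenImmersion.lift_fac _ _ _)
      let c' : res (top (S := S)) O ⟶ T := MorphismProperty.Over.homMk (𝟙 _) ((Category.id_comp _).trans (Category.comp_id O.ι).symm)
      have hR : Sieve.ofArrows _ (fun _ : PUnit.{u + 1} => q) ∈ S.smallEtaleTopology T := by
        rw [Scheme.ofArrows_mem_smallEtaleTopology_iff]
        refine Set.eq_univ_of_forall fun z => Set.mem_iUnion.2 ⟨⟨⟩, ?_⟩
        obtain ⟨y, hy⟩ := z.2
        refine ⟨y, O.ι.isOpenEmbedding.injective ?_⟩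
        refine (Scheme.Hom.comp_apply q.left O.ι y).symm.trans ?_
        exact (congr($(IsOpenImmersion.lift_fac O.ι W.hom (by intro z hz; exact (Scheme.Opens.range_ι O).ge hz)) y)).trans hy
      obtain ⟨Y, g, hg, y, -⟩ := p.jointly_surjective _ hR ((Φ).map c' ((Φ).map c o))
      obtain ⟨-, b, -⟩ := (Sieve.mem_ofArrows_iff ..).1 hg
      exact ⟨(Φ).map b y⟩
    have hi : Function.Injective fun i => η (res U A) ((Φ).map (a i) w) := fun i j e =>
      hne (η W w) i (Finset.mem_univ i) j (Finset.mem_univ j) (by rw [← hnat, ← hnat]; exact e)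
    intro z
    obtain ⟨i, hi'⟩ := (Finite.injective_iff_surjective.1 hi) z
    exact ⟨_, hi'⟩
  exact ⟨Ω, _, inferInstance, ξ, ⟨NatIso.ofComponents
    (fun U => (Equiv.ofBijective (η U) ⟨hinj U, hsurj U⟩).toIso)
    (fun {U U'} a => by ext v; exact hnat a v)⟩⟩

end Groth.Agent.EtPoint5
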